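import Groth.Agent.Lib.QuotLR3.Alg
import Groth.Prelude.Def_CoactBr
import Groth.Prelude.Def_RedSub

/-! The Galois data of an affine quotient of an affine group by a subgroup. -/

set_option autoImplicit false
universe u
open CategoryTheory Limits MonoidalCategory CartesianMonoidalCategory AlgebraicGeometry MonObj
open scoped TensorProduct

noncomputable section

set_option backward.isDefEq.respectTransparency.types false

namespace Groth.Agent.QuotLR3

variable {k : Type u} [Field k] {AG AH : Type u} [CommRing AG] [HopfAlgebra k AG]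
  [CommRing AH] [HopfAlgebra k AH]

instance isIso_lift_includeLeft_includeRight {A B : Type u} [CommRing A] [Algebra k A] [CommRing B] [Algebra k B] :
    IsIso (CartesianMonoidalCategory.lift (CoactBr.pt (Algebra.TensorProduct.includeLeft : A →ₐ[k] A ⊗[k] B))
      (CoactBr.pt (Algebra.TensorProduct.includeRight : B →ₐ[k] A ⊗[k] B))) := by
  set u := CartesianMonoidalCategory.lift (CoactBr.pt (Algebra.TensorProduct.includeLeft : A →ₐ[k] A ⊗[k] B))
      (CoactBr.pt (Algebra.TensorProduct.includeRight : B →ₐ[k] A ⊗[k] B)) with hu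
  haveI : IsIso u.left := by
    have : u.left = (pullbackSpecIso k A B).inv := by
      refine pullback.hom_ext ?_ ?_
      · refine Eq.trans ?_ (pullbackSpecIso_inv_fst k A B).symm
        exact congrArg CommaMorphism.left (CartesianMonoidalCategory.lift_fst
          (CoactBr.pt (Algebra.TensorProduct.includeLeft : A →ₐ[k] A ⊗[k] B))
          (CoactBr.pt (Algebra.TensorProduct.includeRight : B →ₐ[k] A ⊗[k] B)))
      · refine Eq.trans ?_ (pullbackSpecIso_inv_snd k A B).symm
        exact congrArg CommaMorphism.left (CartesianMonoidalCategory.lift_snd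
          (CoactBr.pt (Algebra.TensorProduct.includeLeft : A →ₐ[k] A ⊗[k] B))
          (CoactBr.pt (Algebra.TensorProduct.includeRight : B →ₐ[k] A ⊗[k] B)))
    rw [this]
    infer_instance
  haveI : IsIso ((Over.forget _).map u) := ‹IsIso u.left›
  exact isIso_of_reflects_iso u (Over.forget _)

/-- The kernel pair of the quotient map of an affine group by a subgroup. -/
theorem kernelPair (ψ : AG →ₐc[k] AH) [IsMonHom (CoactBr.pt (ψ : AG →ₐ[k] AH))]
    (Q : Over (Spec (CommRingCat.of k))) (q : CoactBr.sp k AG ⟶ Q)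
    (hpb : IsPullback (fst (CoactBr.sp k AG) (CoactBr.sp k AH))
      ((CoactBr.sp k AG ◁ CoactBr.pt (ψ : AG →ₐ[k] AH)) ≫ μ[CoactBr.sp k AG]) q q) :
    IsPullback (CoactBr.pt (Algebra.TensorProduct.includeLeft : AG →ₐ[k] AG ⊗[k] AH))
      (CoactBr.pt (rho ψ)) q q := by
  let T := AG ⊗[k] AH
  let il : AG →ₐ[k] T := Algebra.TensorProduct.includeLeft
  let ir : AH →ₐ[k] T := Algebra.TensorProduct.includeRight
  let u : CoactBr.sp k T ⟶ CoactBr.sp k AG ⊗ CoactBr.sp k AH :=
    CartesianMonoidalCategory.lift (CoactBr.pt il) (CoactBr.pt ir)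
  haveI : IsIso u := isIso_lift_includeLeft_includeRight
  have hact : u ≫ ((CoactBr.sp k AG ◁ CoactBr.pt (ψ : AG →ₐ[k] AH)) ≫ μ[CoactBr.sp k AG]) =
      CoactBr.pt (rho ψ) := by
    rw [← Category.assoc, lift_whiskerLeft, ← Hom.mul_def, ← CoactBr.pt_comp, CoactBr.pt_mul_pt]
    congr 1
    refine AlgHom.ext fun a => ?_
    show Algebra.TensorProduct.lift il (ir.comp (ψ : AG →ₐ[k] AH)) (fun _ _ => .all _ _) (CoalgebraStruct.comul (R := k) a) =
      Algebra.TensorProduct.map (AlgHom.id k AG) (ψ : AG →ₐ[k] AH) (CoalgebraStruct.comul (R := k) a)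
    congr 1
    refine Algebra.TensorProduct.ext' fun a b => ?_
    simp [il, ir]
    show (a ⊗ₜ[k] (1 : AH)) * ((1 : AG) ⊗ₜ[k] ψ b) = a ⊗ₜ[k] ψ b
    simp
  have hfst : u ≫ fst (CoactBr.sp k AG) (CoactBr.sp k AH) = CoactBr.pt il := lift_fst _ _
  have hsq : IsPullback (CoactBr.pt il) (CoactBr.pt (rho ψ)) q q :=
    IsPullback.of_iso hpb (asIso u).symm (Iso.refl _) (Iso.refl _) (Iso.refl _)
      (by simp [← hfst]) (by simp [← hact]) (by simp) (by simp)
  exact hsq

theorem isLinearlyReductive_of_quotient (hG : HopfRep.IsLinearlyReductive k AG) (ψ : AG →ₐc[k] AH)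
    [IsMonHom (CoactBr.pt (ψ : AG →ₐ[k] AH))]
    (Q : Over (Spec (CommRingCat.of k))) [IsAffine Q.left] (q : CoactBr.sp k AG ⟶ Q)
    (hq : RedSub.IsQuotient (CoactBr.pt (ψ : AG →ₐ[k] AH)) q) :
    HopfRep.IsLinearlyReductive k AH := by
  obtain ⟨hsurj, hflat, -, hpb⟩ := hq
  let T := AG ⊗[k] AH
  let il : AG →ₐ[k] T := Algebra.TensorProduct.includeLeft
  have hsq : IsPullback (CoactBr.pt il) (CoactBr.pt (rho ψ)) q q := kernelPair ψ Q q hpb
  -- pass to schemes and rings
  let f : Γ(Q.left, ⊤) ⟶ CommRingCat.of AG :=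
    q.left.appTop ≫ (Scheme.ΓSpecIso (CommRingCat.of AG)).hom
  let ql : Spec (CommRingCat.of AG) ⟶ Q.left := q.left
  have hfs : Spec.map f = ql ≫ Q.left.isoSpec.hom := by
    rw [← Scheme.isoSpec_hom_naturality ql, Scheme.isoSpec_Spec_hom, ← Spec.map_comp]
    rfl
  have hf : ql = Spec.map f ≫ Q.left.isoSpec.inv := by
    rw [hfs, Category.assoc, Iso.hom_inv_id, Category.comp_id]
  let B := Γ(Q.left, ⊤)
  let s : CommRingCat.of k ⟶ B := (Scheme.ΓSpecIso (CommRingCat.of k)).inv ≫ Q.hom.appTop
  letI : Algebra k B := s.hom.toAlgebra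
  letI : Algebra B AG := f.hom.toAlgebra
  have hkf : s ≫ f = CommRingCat.ofHom (algebraMap k AG) := by
    have hw := congrArg (fun g => g.appTop) (Over.w q)
    simp only [Scheme.Hom.comp_appTop] at hw
    simp only [s, f, Category.assoc]
    rw [reassoc_of% hw, Iso.inv_comp_eq]
    exact Scheme.ΓSpecIso_naturality (CommRingCat.ofHom (algebraMap k AG))
  haveI : IsScalarTower k B AG := .of_algebraMap_eq' (congrArg CommRingCat.Hom.hom hkf).symm
  have hleft : IsPullback (Spec.map (CommRingCat.ofHom il.toRingHom))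
      (Spec.map (CommRingCat.ofHom (rho ψ).toRingHom)) (Spec.map f) (Spec.map f) := by
    have h1 : IsPullback (CoactBr.pt il).left (CoactBr.pt (rho ψ)).left q.left q.left :=
      hsq.map (Over.forget _)
    change IsPullback (Spec.map (CommRingCat.ofHom il.toRingHom))
      (Spec.map (CommRingCat.ofHom (rho ψ).toRingHom)) ql ql at h1
    rw [hfs]
    exact IsPullback.of_iso h1 (Iso.refl _) (Iso.refl _) (Iso.refl _) Q.left.isoSpec
      (by simp) (by simp) (by simp) (by simp)
  haveI : Module.FaithfullyFlat B AG := by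
    haveI : Flat ql := hflat
    haveI : Surjective ql := hsurj
    haveI : Flat (Spec.map f) := by rw [hfs]; infer_instance
    haveI : Surjective (Spec.map f) := by rw [hfs]; infer_instance
    haveI : Module.Flat B AG := (Flat.SpecMap_iff (f := f)).mp inferInstance
    exact Module.FaithfullyFlat.of_comap_surjective (Surjective.surj (f := Spec.map f))
  -- the square of rings
  have hcomm : f ≫ CommRingCat.ofHom il.toRingHom = f ≫ CommRingCat.ofHom (rho ψ).toRingHom :=
    Spec.map_injective (by simp only [Spec.map_comp]; exact hleft.w)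
  refine isLinearlyReductive (B := B) hG ψ (fun b => ?_) fun ρB hρB => ?_
  · exact (congrArg (fun g : B ⟶ CommRingCat.of T => g b) hcomm).symm
  have h0 : IsPushout f f (CommRingCat.ofHom (Algebra.TensorProduct.includeLeftRingHom (R := B) (A := AG) (B := AG)))
      (CommRingCat.ofHom (Algebra.TensorProduct.includeRight (R := B) (A := AG) (B := AG)).toRingHom) :=
    CommRingCat.isPushout_tensorProduct B AG AG
  have h0' := isPullback_SpecMap_of_isPushout _ _ _ _ h0
  let e := hleft.isoIsPullback _ _ h0'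
  let β := Algebra.TensorProduct.lift (Algebra.TensorProduct.includeLeft : AG →ₐ[B] T) ρB fun _ _ => .all _ _
  have he : Spec.map (CommRingCat.ofHom β.toRingHom) = e.hom := by
    refine h0'.hom_ext ?_ ?_
    · rw [IsPullback.isoIsPullback_hom_fst, ← Spec.map_comp]
      congr 1
      ext x
      simp [β, il]
      rfl
    · rw [IsPullback.isoIsPullback_hom_snd, ← Spec.map_comp]
      congr 1
      ext x
      simp [β, ← hρB]
      exact one_mul (ρB x)
  haveI : IsIso (Spec.map (CommRingCat.ofHom β.toRingHom)) := by rw [he]; infer_instance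
  haveI : IsIso (CommRingCat.ofHom β.toRingHom) := by
    haveI : IsIso (Scheme.Spec.map (CommRingCat.ofHom β.toRingHom).op) := ‹IsIso (Spec.map _)›
    exact (isIso_op_iff _).mp (isIso_of_fully_faithful Scheme.Spec _)
  exact ConcreteCategory.bijective_of_isIso (CommRingCat.ofHom β.toRingHom)

end Groth.Agent.QuotLR3
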