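import Groth.Agent.Lib.CoalgH23.Integral

/-! A subgroup with affine faithfully flat quotient in a linearly reductive group is linearly reductive. -/

set_option autoImplicit false
universe u
open TensorProduct HopfRep

noncomputable section

namespace Groth.Agent.QuotLR3

variable {k : Type u} [Field k] {AG AH B : Type u} [CommRing AG] [HopfAlgebra k AG]
  [CommRing AH] [HopfAlgebra k AH] [CommRing B] [Algebra k B] [Algebra B AG] [IsScalarTower k B AG]

/-- Right translation by the subgroup. -/
def rho (ψ : AG →ₐc[k] AH) : AG →ₐ[k] AG ⊗[k] AH :=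
  (Algebra.TensorProduct.map (AlgHom.id k AG) (ψ : AG →ₐ[k] AH)).comp (Bialgebra.comulAlgHom k AG)

theorem rho_coassoc (ψ : AG →ₐc[k] AH) (a : AG) :
    Algebra.TensorProduct.assoc k k k AG AH AH
        (Algebra.TensorProduct.map (rho ψ) (AlgHom.id k AH) (rho ψ a)) =
      Algebra.TensorProduct.map (AlgHom.id k AG) (Bialgebra.comulAlgHom k AH) (rho ψ a) := by
  have hψ : ∀ z, CoalgebraStruct.comul (R := k) ((ψ : AG →ₐ[k] AH) z) =
      TensorProduct.map (ψ : AG →ₐ[k] AH).toLinearMap (ψ : AG →ₐ[k] AH).toLinearMap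
        (CoalgebraStruct.comul (R := k) z) :=
    fun z => (CoalgHomClass.map_comp_comul_apply ψ z).symm
  let f := (ψ : AG →ₐ[k] AH).toLinearMap
  have h := Coalgebra.coassoc_apply (R := k) a
  have h' := congrArg (TensorProduct.map LinearMap.id (TensorProduct.map f f)) h
  change _ = TensorProduct.map LinearMap.id (Bialgebra.comulAlgHom k AH).toLinearMap
    (TensorProduct.map LinearMap.id f (CoalgebraStruct.comul (R := k) a))
  rw [← LinearMap.comp_apply, ← TensorProduct.map_comp, LinearMap.id_comp]
  have e : (Bialgebra.comulAlgHom k AH).toLinearMap ∘ₗ f =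
      TensorProduct.map f f ∘ₗ CoalgebraStruct.comul (R := k) (A := AG) := LinearMap.ext hψ
  rw [e]
  have e2 : TensorProduct.map LinearMap.id (TensorProduct.map f f ∘ₗ CoalgebraStruct.comul (R := k) (A := AG))
      (CoalgebraStruct.comul (R := k) a) = TensorProduct.map LinearMap.id (TensorProduct.map f f)
        ((CoalgebraStruct.comul (R := k) (A := AG)).lTensor AG (CoalgebraStruct.comul (R := k) a)) := by
    generalize CoalgebraStruct.comul (R := k) a = z
    induction z with
    | zero => simp
    | add x y hx hy => simp only [map_add, hx, hy]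
    | tmul x y => simp
  rw [e2, ← h']
  change Algebra.TensorProduct.assoc k k k AG AH AH (TensorProduct.map (rho ψ).toLinearMap LinearMap.id
    (TensorProduct.map LinearMap.id f (CoalgebraStruct.comul (R := k) a))) = _
  generalize CoalgebraStruct.comul (R := k) a = z
  induction z with
  | zero => simp
  | add x y hx hy => simp only [map_add, hx, hy]
  | tmul x y =>
    show Algebra.TensorProduct.assoc k k k AG AH AH
      (TensorProduct.map LinearMap.id f (CoalgebraStruct.comul (R := k) x) ⊗ₜ[k] f y) = _
    simp only [LinearMap.rTensor_tmul]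
    generalize CoalgebraStruct.comul (R := k) x = w
    induction w with
    | zero => simp
    | add u v hu hv => simp only [map_add, TensorProduct.add_tmul, hu, hv]
    | tmul u v => simp

/-- Transport of faithfully flat Galois data to linear reductivity. -/
theorem isLinearlyReductive [Module.FaithfullyFlat B AG] (hG : IsLinearlyReductive k AG) (ψ : AG →ₐc[k] AH)
    (hB : ∀ b : B, rho ψ (algebraMap B AG b) = algebraMap B AG b ⊗ₜ[k] 1)
    (hβ : ∀ ρB : AG →ₐ[B] AG ⊗[k] AH, ρB.restrictScalars k = rho ψ →
      Function.Bijective (Algebra.TensorProduct.lift (Algebra.TensorProduct.includeLeft : AG →ₐ[B] AG ⊗[k] AH) ρB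
        fun _ _ => .all _ _)) :
    IsLinearlyReductive k AH := by
  obtain ⟨l, hl1, hl⟩ := CoalgH23.exists_integral_of_hasFixedLifts
    (CoalgH23.hasFixedLifts_of_isLinearlyReductive hG)
  refine CoalgH23.isLinearlyReductive_of_hasFixedLifts fun V _ _ _ hV π hπ hcom => ?_
  classical
  -- the matrix of the representation
  let e := Module.finBasis k V
  let m := Fin (Module.finrank k V)
  let cf : m → V ⊗[k] AH →ₗ[k] AH := fun i =>
    (TensorProduct.lid k AH).toLinearMap ∘ₗ (e.coord i).rTensor AH
  have hexp : ∀ z : V ⊗[k] AH, z = ∑ i, e i ⊗ₜ[k] cf i z := by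
    intro z
    induction z with
    | zero => simp
    | add x y hx hy =>
      simp only [map_add, TensorProduct.tmul_add, Finset.sum_add_distrib, ← hx, ← hy]
    | tmul v a =>
      simp only [cf, LinearMap.comp_apply, LinearMap.rTensor_tmul, LinearEquiv.coe_coe,
        TensorProduct.lid_tmul, TensorProduct.tmul_smul, ← TensorProduct.smul_tmul', ← TensorProduct.sum_tmul,
        Module.Basis.coord_apply]
      simp only [TensorProduct.smul_tmul', ← TensorProduct.sum_tmul, e.sum_repr]
  let c : Matrix m m AH := fun i j => cf i (Comod.coact (k := k) (A := AH) (e j))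
  have hc : ∀ j, Comod.coact (k := k) (A := AH) (e j) = ∑ i, e i ⊗ₜ[k] c i j := fun j => hexp _
  have hcomul : ∀ i j, CoalgebraStruct.comul (R := k) (c i j) = ∑ t, c i t ⊗ₜ[k] c t j := by
    intro i j
    have h := LinearMap.congr_fun (Comod.coassoc (k := k) (A := AH) (V := V)) (e j)
    have h' := congrArg ((TensorProduct.lid k (AH ⊗[k] AH)).toLinearMap ∘ₗ (e.coord i).rTensor (AH ⊗[k] AH)) h
    simp only [LinearMap.comp_apply, hc j, map_sum, LinearMap.rTensor_tmul, LinearMap.lTensor_tmul, hc,
      LinearEquiv.coe_coe, TensorProduct.sum_tmul, TensorProduct.assoc_tmul, TensorProduct.lid_tmul,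
      Module.Basis.coord_apply, e.repr_self, Finsupp.single_apply, ite_smul, one_smul, zero_smul,
      Finset.sum_ite_eq', Finset.mem_univ, if_true] at h'
    exact h'.symm
  have hcounit : ∀ i j, CoalgebraStruct.counit (R := k) (c i j) = if i = j then 1 else 0 := by
    intro i j
    have h := LinearMap.congr_fun (Comod.counit_comp (k := k) (A := AH) (V := V)) (e j)
    have h' := congrArg ((TensorProduct.lid k k).toLinearMap ∘ₗ (e.coord i).rTensor k) h
    simp only [LinearMap.comp_apply, hc j, map_sum, LinearMap.rTensor_tmul, LinearMap.lTensor_tmul,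
      LinearEquiv.coe_coe, LinearMap.flip_apply, TensorProduct.mk_apply, TensorProduct.lid_tmul,
      Module.Basis.coord_apply, e.repr_self, Finsupp.single_apply, ite_smul, one_smul, zero_smul,
      Finset.sum_ite_eq', Finset.mem_univ, if_true, smul_eq_mul, mul_one, ite_mul, one_mul, zero_mul] at h'
    rw [h']
    exact if_congr eq_comm rfl rfl
  let c' : Matrix m m AH := c.map (HopfAlgebraStruct.antipode (R := k))
  have hcc' : c * c' = 1 := by
    refine Matrix.ext fun i j => ?_
    have h := HopfAlgebra.mul_antipode_lTensor_comul_apply (R := k) (c i j)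
    simp only [hcomul, map_sum, LinearMap.lTensor_tmul, LinearMap.mul'_apply, hcounit] at h
    rw [Matrix.mul_apply, Matrix.one_apply]
    simpa [c', apply_ite] using h
  have hc'c : c' * c = 1 := mul_eq_one_comm.mp hcc'
  -- the invariant row vector
  let p : m → AH := fun i => algebraMap k AH (π (e i))
  have hp : Matrix.vecMul p c = p := by
    funext j
    have h := congrArg (TensorProduct.lid k AH) (LinearMap.congr_fun hcom (e j))
    simp only [LinearMap.comp_apply, hc j, map_sum, LinearMap.rTensor_tmul, TensorProduct.lid_tmul,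
      LinearMap.flip_apply, TensorProduct.mk_apply] at h
    simpa [Matrix.vecMul, dotProduct, p, Algebra.smul_def] using h
  have hp' : Matrix.vecMul p c' = p := by
    conv_lhs => rw [← hp]
    rw [Matrix.vecMul_vecMul, hcc', Matrix.vecMul_one]
  obtain ⟨v₀, hv₀⟩ := hπ 1
  let w : m → AH := fun j => algebraMap k AH (e.repr v₀ j)
  let y : m → AH := c'.mulVec w
  have hpw : dotProduct p w = 1 := by
    simp only [dotProduct, p, w, ← map_mul, ← map_sum]
    rw [show ∑ i, π (e i) * e.repr v₀ i = π v₀ by
      conv_rhs => rw [← e.sum_repr v₀, map_sum]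
      simp [mul_comm], hv₀, map_one]
  have hpy : dotProduct p y = 1 := by
    rw [Matrix.dotProduct_mulVec, hp', hpw]
  let Δ := Bialgebra.comulAlgHom k AH
  let i₁ : AH →ₐ[k] AH ⊗[k] AH := Algebra.TensorProduct.includeLeft
  let i₂ : AH →ₐ[k] AH ⊗[k] AH := Algebra.TensorProduct.includeRight
  have hΔc : c.map Δ = c.map i₁ * c.map i₂ := by
    refine Matrix.ext fun i j => ?_
    simp [Matrix.mul_apply, Δ, hcomul, i₁, i₂]
  have hy : (c.map i₂).mulVec (Δ ∘ y) = i₁ ∘ y := by
    have h1 : (c.map Δ).mulVec (Δ ∘ y) = Δ ∘ w := by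
      funext i
      refine (RingHom.map_mulVec Δ.toRingHom c y i).symm.trans (congrArg Δ ?_)
      show c.mulVec (c'.mulVec w) i = w i
      rw [Matrix.mulVec_mulVec, hcc', Matrix.one_mulVec]
    have h2 : (c'.map i₁).mulVec (Δ ∘ w) = i₁ ∘ y := by
      have : Δ ∘ w = i₁ ∘ w := by funext i; simp [w]
      rw [this]
      funext i
      exact (RingHom.map_mulVec i₁.toRingHom c' w i).symm
    have h3 : c'.map i₁ * c.map i₁ = 1 := by
      rw [← Matrix.map_mul, hc'c, Matrix.map_one _ (map_zero _) (map_one _)]
    rw [← h2, ← h1, hΔc, Matrix.mulVec_mulVec, ← Matrix.mul_assoc, h3, Matrix.one_mul]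
  -- the equations over the invariant ring
  let ρB : AG →ₐ[B] AG ⊗[k] AH := { (rho ψ) with commutes' := fun b => by exact hB b }
  let iL : AG →ₐ[B] AG ⊗[k] AH := Algebra.TensorProduct.includeLeft
  let β := Algebra.TensorProduct.lift iL ρB fun _ _ => .all _ _
  have hβ' : Function.Bijective β := hβ ρB (AlgHom.ext fun _ => rfl)
  let op : m → m → AG →ₗ[B] AG ⊗[k] AH := fun i j =>
    LinearMap.mulRight B ((1 : AG) ⊗ₜ[k] c i j) ∘ₗ ρB.toLinearMap - if i = j then iL.toLinearMap else 0
  let D : (m → AG) →ₗ[B] (m → AG ⊗[k] AH) := LinearMap.pi fun i => ∑ j, op i j ∘ₗ LinearMap.proj j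
  let π' : (m → AG) →ₗ[B] AG := ∑ j, LinearMap.mulLeft B (algebraMap k AG (π (e j))) ∘ₗ LinearMap.proj j
  let R := (LinearMap.ker D).map π'
  choose z hz using fun j => hβ'.2 ((1 : AG) ⊗ₜ[k] y j)
  let Y : AG ⊗[B] (m → AG) := ∑ j, (LinearMap.single B (fun _ : m => AG) j).lTensor AG (z j)
  let Γ : AG ⊗[B] (AG ⊗[k] AH) →+* AG ⊗[k] (AH ⊗[k] AH) :=
    (Algebra.TensorProduct.assoc k k k AG AH AH).toRingEquiv.toRingHom.comp
      ((Algebra.TensorProduct.map (β.restrictScalars k) (AlgHom.id k AH)).toRingHom.comp
        (Algebra.TensorProduct.assoc k B B AG AG AH).symm.toRingEquiv.toRingHom)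
  have hΓ : Function.Injective Γ := by
    intro u v huv
    have h1 := (Algebra.TensorProduct.assoc k k k AG AH AH).injective huv
    exact (Algebra.TensorProduct.assoc k B B AG AG AH).symm.injective
      (Module.Flat.rTensor_preserves_injective_linearMap (β.restrictScalars k).toLinearMap hβ'.1 h1)
  have hΓL : ∀ x, Γ (Algebra.TensorProduct.map (AlgHom.id B AG) iL x) =
      Algebra.TensorProduct.assoc k k k AG AH AH (β x ⊗ₜ[k] 1) := by
    intro x
    induction x with
    | zero => simp
    | add a b ha hb => simp only [map_add, TensorProduct.add_tmul, ha, hb]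
    | tmul a b => simp [Γ, iL]
  have hΓρ : ∀ x, Γ (Algebra.TensorProduct.map (AlgHom.id B AG) ρB x) =
      Algebra.TensorProduct.map (AlgHom.id k AG) Δ (β x) := by
    intro x
    induction x with
    | zero => simp
    | add a b ha hb => simp only [map_add, ha, hb]
    | tmul a b =>
      have hb : ∀ v : AG ⊗[k] AH, Γ (a ⊗ₜ[B] v) = (a ⊗ₜ[k] (1 : AH ⊗[k] AH)) *
          Algebra.TensorProduct.assoc k k k AG AH AH (Algebra.TensorProduct.map (rho ψ) (AlgHom.id k AH) v) := by
        intro v
        induction v with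
        | zero => simp
        | add a' b' ha hb => simp only [TensorProduct.tmul_add, map_add, mul_add, ha, hb]
        | tmul b' h =>
          simp [Γ, β, iL]
          rw [← one_mul h, ← Algebra.TensorProduct.tmul_mul_tmul, map_mul]
          simp [ρB]
          rfl
      rw [Algebra.TensorProduct.map_tmul]
      show Γ (a ⊗ₜ[B] rho ψ b) = _
      rw [hb, rho_coassoc]
      simp [β, iL, map_mul, ρB]
      rfl
  have hΓc : ∀ t, Γ ((1 : AG) ⊗ₜ[B] ((1 : AG) ⊗ₜ[k] t)) = (1 : AG) ⊗ₜ[k] i₂ t := by
    intro t
    simp [Γ, i₂, β, iL]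
  have hop : ∀ i j x, Γ ((op i j).lTensor AG x) =
      Algebra.TensorProduct.map (AlgHom.id k AG) Δ (β x) * ((1 : AG) ⊗ₜ[k] i₂ (c i j)) -
        if i = j then Algebra.TensorProduct.assoc k k k AG AH AH (β x ⊗ₜ[k] 1) else 0 := by
    intro i j x
    rw [← hΓρ, ← hΓc, ← hΓL, ← map_mul]
    simp only [op, LinearMap.lTensor_sub, LinearMap.sub_apply, map_sub]
    congr 1
    · congr 1
      induction x with
      | zero => simp
      | add a b ha hb => simp only [map_add, add_mul, ha, hb]
      | tmul a b => simp
    · split_ifs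
      · congr 1
      · simp
  have hYD : (D.lTensor AG) Y = 0 := by
    refine (TensorProduct.piRight B B AG (fun _ : m => AG ⊗[k] AH)).injective ?_
    rw [map_zero]
    funext i
    have hpr : ∀ u : AG ⊗[B] (m → AG ⊗[k] AH),
        TensorProduct.piRight B B AG (fun _ : m => AG ⊗[k] AH) u i = (LinearMap.proj i).lTensor AG u := by
      intro u
      induction u with
      | zero => simp
      | add a b ha hb => simp only [map_add, Pi.add_apply, ha, hb]
      | tmul a b => simp
    have hcomp : ∀ j, LinearMap.proj i ∘ₗ D ∘ₗ LinearMap.single B (fun _ : m => AG) j = op i j := by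
      intro j
      refine LinearMap.ext fun a => ?_
      simp [D, Pi.single_apply, Finset.sum_apply, apply_ite (op i _)]
      exact (Finset.sum_eq_single j (fun b _ hb => if_neg hb) (fun h => absurd (Finset.mem_univ j) h)).trans (if_pos rfl)
    apply hΓ
    rw [hpr, Pi.zero_apply, map_zero]
    simp only [Y, map_sum, ← LinearMap.lTensor_comp_apply, LinearMap.comp_assoc, hcomp, hop, hz,
      Finset.sum_sub_distrib, Finset.sum_ite_eq, Finset.mem_univ, if_true]
    simp only [Algebra.TensorProduct.map_tmul, Algebra.TensorProduct.tmul_mul_tmul, AlgHom.id_apply, mul_one,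
      Algebra.TensorProduct.assoc_tmul]
    refine (congrArg₂ (· - ·) rfl ((Finset.sum_eq_single i (fun b _ hb => if_neg (Ne.symm hb))
      (fun h => absurd (Finset.mem_univ i) h)).trans (if_pos rfl))).trans ?_
    rw [← TensorProduct.tmul_sum, ← TensorProduct.tmul_sub]
    have := congrFun hy i
    simp only [Matrix.mulVec, dotProduct, Function.comp_apply, Matrix.map_apply] at this
    simp_rw [mul_comm (Δ _)]
    rw [this]
    simp [i₁]
  have hYπ : (π'.lTensor AG) Y = (1 : AG) ⊗ₜ[B] (1 : AG) := by
    apply hβ'.1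
    have hsingle : ∀ j, π' ∘ₗ LinearMap.single B (fun _ : m => AG) j =
        LinearMap.mulLeft B (algebraMap k AG (π (e j))) := by
      intro j
      refine LinearMap.ext fun a => ?_
      simp [π', Pi.single_apply]
    have hmul : ∀ (t : AG) (x : AG ⊗[B] AG), (LinearMap.mulLeft B t).lTensor AG x = ((1 : AG) ⊗ₜ[B] t) * x := by
      intro t x
      induction x with
      | zero => simp
      | add a b ha hb => simp only [map_add, mul_add, ha, hb]
      | tmul a b => simp
    simp only [Y, map_sum, ← LinearMap.lTensor_comp_apply, hsingle, hmul, map_mul, hz]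
    have hb : ∀ t : k, β ((1 : AG) ⊗ₜ[B] algebraMap k AG t) = (1 : AG) ⊗ₜ[k] algebraMap k AH t := by
      intro t
      show (1 : AG ⊗[k] AH) * rho ψ (algebraMap k AG t) = _
      rw [one_mul, AlgHom.commutes, Algebra.algebraMap_eq_smul_one (A := AH), TensorProduct.tmul_smul]
      exact Algebra.algebraMap_eq_smul_one t
    simp only [hb, Algebra.TensorProduct.tmul_mul_tmul, mul_one, ← TensorProduct.tmul_sum]
    rw [show ∑ j, algebraMap k AH (π (e j)) * y j = 1 from hpy]
    simp [β, Algebra.TensorProduct.one_def]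
  have hex : Function.Exact (LinearMap.ker D).subtype D := D.exact_subtype_ker_map
  obtain ⟨Y', hY'⟩ := (Module.Flat.lTensor_exact AG hex Y).1 hYD
  have h1R : (1 : AG) ∈ R := by
    have h1 : (R.mkQ.lTensor AG) ((1 : AG) ⊗ₜ[B] (1 : AG)) = 0 := by
      rw [← hYπ, ← hY', ← LinearMap.lTensor_comp_apply, ← LinearMap.lTensor_comp_apply, LinearMap.comp_assoc]
      have : R.mkQ ∘ₗ π' ∘ₗ (LinearMap.ker D).subtype = 0 := by
        refine LinearMap.ext fun a => ?_
        simp only [LinearMap.comp_apply, LinearMap.zero_apply, Submodule.mkQ_apply, Submodule.Quotient.mk_eq_zero]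
        exact Submodule.mem_map_of_mem a.2
      rw [this, LinearMap.lTensor_zero, LinearMap.zero_apply]
    rw [LinearMap.lTensor_tmul] at h1
    rw [← Submodule.Quotient.mk_eq_zero]
    exact Module.FaithfullyFlat.tensorProduct_mk_injective (A := B) (B := AG) (AG ⧸ R) (h1.trans (TensorProduct.tmul_zero _ _).symm)
  obtain ⟨a, ha, haπ⟩ := h1R
  -- integrate
  let L : AG ⊗[k] AH →ₗ[k] AH := (TensorProduct.lid k AH).toLinearMap ∘ₗ l.rTensor AH
  have hLmul : ∀ x t, L (x * ((1 : AG) ⊗ₜ[k] t)) = L x * t := by
    intro x t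
    induction x with
    | zero => simp
    | add a b ha hb => simp only [add_mul, map_add, ha, hb]
    | tmul a b => simp [L]
  have hLρ : ∀ x, L (rho ψ x) = algebraMap k AH (l x) := by
    intro x
    rw [← (ψ : AG →ₐ[k] AH).commutes, ← hl x]
    show L (TensorProduct.map LinearMap.id (ψ : AG →ₐ[k] AH).toLinearMap (CoalgebraStruct.comul (R := k) x)) = _
    generalize CoalgebraStruct.comul (R := k) x = q
    induction q with
    | zero => simp
    | add a b ha hb => simp only [map_add, ha, hb]
    | tmul a b => simp [L]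
  have hla : ∀ i, ∑ j, algebraMap k AH (l (a j)) * c i j = algebraMap k AH (l (a i)) := by
    intro i
    have h := congrArg L (congrFun (LinearMap.mem_ker.1 ha) i)
    simp only [D, LinearMap.pi_apply, LinearMap.sum_apply, LinearMap.comp_apply, LinearMap.proj_apply,
      Pi.zero_apply, map_zero, op, LinearMap.sub_apply, Finset.sum_sub_distrib, map_sub, map_sum] at h
    have h1 : ∀ j, L ((LinearMap.mulRight B ((1 : AG) ⊗ₜ[k] c i j)) (ρB.toLinearMap (a j))) =
        algebraMap k AH (l (a j)) * c i j := fun j => (hLmul (rho ψ (a j)) (c i j)).trans (by rw [hLρ])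
    have h2 : ∑ j, L ((if i = j then iL.toLinearMap else 0) (a j)) = algebraMap k AH (l (a i)) := by
      rw [Finset.sum_eq_single i (fun b _ hb => by rw [if_neg (Ne.symm hb)]; simp)
        (fun h => absurd (Finset.mem_univ i) h), if_pos rfl]
      simp [L, iL, Algebra.algebraMap_eq_smul_one]
    rw [← h2, ← sub_eq_zero, ← h]
    simp only [h1]
  refine ⟨∑ i, l (a i) • e i, ?_, ?_⟩
  · show Comod.coact (k := k) (A := AH) _ = _
    simp only [map_sum, map_smul, hc, Finset.smul_sum]
    rw [Finset.sum_comm, TensorProduct.sum_tmul]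
    refine Finset.sum_congr rfl fun i _ => ?_
    rw [TensorProduct.smul_tmul, ← Algebra.algebraMap_eq_smul_one, ← hla i, TensorProduct.tmul_sum]
    refine Finset.sum_congr rfl fun j _ => ?_
    rw [← TensorProduct.tmul_smul, Algebra.smul_def]
  · have : π (∑ i, l (a i) • e i) = l (π' a) := by
      simp [π', map_sum]
      refine Finset.sum_congr rfl fun x _ => ?_
      rw [← Algebra.smul_def, map_smul, smul_eq_mul, mul_comm]
    rw [this, haπ, hl1]
    exact one_ne_zero

end Groth.Agent.QuotLR3
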